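import Groth.Agent.H2.FlatHom.Base
import Groth.Agent.H4.IsogenyDim
import Groth.Agent.H4.GeomInt

/-!
# Homomorphisms of smooth proper group schemes with connected fibres
-/

set_option autoImplicit false

universe u

open CategoryTheory Limits MonoidalCategory CartesianMonoidalCategory MonObj AlgebraicGeometry
open Groth.Agent.Lib

namespace Groth.Agent.H2.FlatHom.Abelian

theorem geometricallyReduced {X S : Scheme.{u}} (g : X ⟶ S) [Smooth g] : GeometricallyReduced g := by
  refine ⟨fun K _ y P p q h => ?_⟩
  have : Smooth q := MorphismProperty.of_isPullback h ‹Smooth g›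
  exact GrpSch.isReduced_of_smooth_field q

variable {S : Scheme.{u}} {A B : Over S} [GrpObj A] [GrpObj B]

/-- A flat homomorphism from a proper group of finite presentation to a separated group with
connected fibres is surjective: its image is clopen and contains the zero section. -/
theorem surjective_of_flat [IsProper A.hom] [LocallyOfFinitePresentation A.hom]
    [IsSeparated B.hom] [LocallyOfFiniteType B.hom] [GeometricallyConnected B.hom]
    (f : A ⟶ B) [IsMonHom f] [Flat f.left] : Surjective f.left := by
  have : LocallyOfFinitePresentation f.left :=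
    Flat55.FibreTransfer.locallyOfFinitePresentation f.left B.hom (Over.w f)
  have : IsProper (f.left ≫ B.hom) := by rw [Over.w]; infer_instance
  have : IsProper f.left := IsProper.of_comp f.left B.hom
  refine ⟨fun y => ?_⟩
  let s := B.hom y
  have hconn : ConnectedSpace ↥(B.hom.fiber s) :=
    pullback_of_geometrically GeometricallyConnected.geometrically_connectedSpace (S.residueField s)
      (S.fromSpecResidueField s)
  have hclopen : IsClopen ((B.hom.fiberι s) ⁻¹' Set.range f.left) :=
    ⟨(f.left.isClosedMap.isClosed_range).preimage (B.hom.fiberι s).continuous,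
      (f.left.isOpenMap.isOpen_range).preimage (B.hom.fiberι s).continuous⟩
  have hne : ((B.hom.fiberι s) ⁻¹' Set.range f.left).Nonempty := by
    have hz : (η[B].left s : B.left) ∈ Set.range (B.hom.fiberι s) := by
      rw [Scheme.Hom.range_fiberι]
      change B.hom (η[B].left s) = s
      rw [← Scheme.Hom.comp_apply, Over.w]
      rfl
    obtain ⟨z, hz⟩ := hz
    refine ⟨z, η[A].left s, ?_⟩
    rw [hz, ← Scheme.Hom.comp_apply, ← Over.comp_left, IsMonHom.one_hom]
  have hy : y ∈ Set.range (B.hom.fiberι s) := by rw [Scheme.Hom.range_fiberι]; rfl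
  obtain ⟨z, hz⟩ := hy
  obtain ⟨x, hx⟩ : z ∈ (B.hom.fiberι s) ⁻¹' Set.range f.left := by rw [hclopen.eq_univ hne]; trivial
  exact ⟨x, hx.trans hz⟩

/-- For smooth proper groups with connected fibres of the same dimension, a homomorphism is
quasi-finite if and only if it is surjective. -/
theorem locallyQuasiFinite_iff_surjective [Smooth A.hom] [IsProper A.hom]
    [GeometricallyConnected A.hom] [Smooth B.hom] [IsProper B.hom] [GeometricallyConnected B.hom]
    (f : A ⟶ B) [IsMonHom f]
    (hdim : ∀ s : S, topologicalKrullDim ↥(A.hom.fiber s) = topologicalKrullDim ↥(B.hom.fiber s)) :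
    LocallyQuasiFinite f.left ↔ Surjective f.left := by
  have : IsProper (f.left ≫ B.hom) := by rw [Over.w]; infer_instance
  have : IsProper f.left := IsProper.of_comp f.left B.hom
  refine ⟨fun hf => Base.surjective_of_fib f fun s => ?_, fun hf => ?_⟩
  · have : IsFinite f.left := IsFinite.of_isProper_of_locallyQuasiFinite f.left
    have : IsFinite (Base.fib f s).left := GrpSch.bc_map_left_of (P := @IsFinite) _ f ‹_›
    have : Smooth (Red.bc (Base.pt s) A).hom := GrpSch.bc_hom_of (P := @Smooth) _ A ‹_›
    have : Smooth (Red.bc (Base.pt s) B).hom := GrpSch.bc_hom_of (P := @Smooth) _ B ‹_›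
    have : GeometricallyConnected (Red.bc (Base.pt s) A).hom :=
      GrpSch.bc_hom_of (P := @GeometricallyConnected) _ A ‹_›
    have : GeometricallyConnected (Red.bc (Base.pt s) B).hom :=
      GrpSch.bc_hom_of (P := @GeometricallyConnected) _ B ‹_›
    have := H4.GeomInt.geometricallyIntegral (Red.bc (Base.pt s) A)
    have := H4.GeomInt.geometricallyIntegral (Red.bc (Base.pt s) B)
    have : IsIntegral (Red.bc (Base.pt s) A).left :=
      GeometricallyIntegral.isIntegral_of_subsingleton (Red.bc (Base.pt s) A).hom
    have : IsIntegral (Red.bc (Base.pt s) B).left :=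
      GeometricallyIntegral.isIntegral_of_subsingleton (Red.bc (Base.pt s) B).hom
    exact H4.IsogenyDim.surjective_of_finite (Base.fib f s) (hdim s).ge
  · have hfin : ∀ y : B.left, (f.left ⁻¹' {y}).Finite := by
      intro y
      let s := B.hom y
      have : Smooth (Red.bc (Base.pt s) B).hom := GrpSch.bc_hom_of (P := @Smooth) _ B ‹_›
      have : GeometricallyConnected (Red.bc (Base.pt s) B).hom :=
        GrpSch.bc_hom_of (P := @GeometricallyConnected) _ B ‹_›
      have : IsProper (Red.bc (Base.pt s) A).hom := GrpSch.bc_hom_of (P := @IsProper) _ A ‹_›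
      have : IsProper (Red.bc (Base.pt s) B).hom := GrpSch.bc_hom_of (P := @IsProper) _ B ‹_›
      have := H4.GeomInt.geometricallyIntegral (Red.bc (Base.pt s) B)
      have : IsMonHom (Base.fib f s) := GrpSch.isMonHom_bc_map _ f
      have := Base.surjective_fib f s
      have : IsFinite (Base.fib f s).left :=
        (H4.IsogenyDim.isFinite_and_flat (Base.fib f s) (hdim s).le).1
      obtain ⟨z, hz⟩ : y ∈ Set.range (B.hom.fiberι s) := by rw [Scheme.Hom.range_fiberι]; rfl
      refine (((Base.fib f s).left.finite_preimage_singleton z).image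
        (GrpSch.bcProj (Base.pt s) A)).subset fun x hx => ?_
      have hsq := Base.isPullback_fib f s
      obtain ⟨w, hw1, hw2⟩ := Scheme.exists_preimage_of_isPullback hsq x z (Eq.trans (Set.mem_singleton_iff.1 hx) hz.symm)
      exact ⟨w, hw2, hw1⟩
    exact LocallyQuasiFinite.of_finite_preimage_singleton f.left hfin

end Groth.Agent.H2.FlatHom.Abelian
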