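import Groth.Agent.H2.FlatHom.Field
import Groth.Agent.Lib.Flat55.FibreTransfer
import Groth.Agent.Lib.SchTopo.Basic

/-!
# Homomorphisms of group schemes over a base, on fibres
-/

set_option autoImplicit false

universe u

open CategoryTheory Limits MonoidalCategory CartesianMonoidalCategory MonObj AlgebraicGeometry
open Groth.Agent.Lib

namespace Groth.Agent.H2.FlatHom.Base

variable {S : Scheme.{u}} {G H : Over S}

/-- The inclusion of `Spec κ(s)`, with the field explicit. -/
noncomputable abbrev pt (s : S) : Spec (CommRingCat.of (S.residueField s : Type u)) ⟶ S :=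
  S.fromSpecResidueField s

/-- The homomorphism of fibres at `s`. -/
noncomputable abbrev fib (f : G ⟶ H) (s : S) : Red.bc (pt s) G ⟶ Red.bc (pt s) H :=
  (Over.pullback (pt s)).map f

theorem isPullback_fib (f : G ⟶ H) (s : S) :
    IsPullback (GrpSch.bcProj (pt s) G) (fib f s).left f.left (H.hom.fiberι s) :=
  (GrpSch.isPullback_bc_map (pt s) f).flip

theorem exists_iso_fib (f : G ⟶ H) (s : S) :
    ∃ e : (Red.bc (pt s) G).left ≅ pullback f.left (H.hom.fiberι s),
      pullback.snd f.left (H.hom.fiberι s) = e.inv ≫ (fib f s).left :=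
  ⟨(isPullback_fib f s).isoPullback, ((isPullback_fib f s).isoPullback_inv_snd).symm⟩

theorem surjective_fib (f : G ⟶ H) [Surjective f.left] (s : S) : Surjective (fib f s).left :=
  GrpSch.bc_map_left_of (P := @Surjective) _ f ‹_›

theorem surjective_of_fib (f : G ⟶ H) (h : ∀ s, Surjective (fib f s).left) : Surjective f.left :=
  Flat55.FibreTransfer.surjective f.left H.hom fun s => by
    obtain ⟨e, he⟩ := exists_iso_fib f s
    rw [he]
    exact MorphismProperty.comp_mem (W := @Surjective) e.inv _ inferInstance (h s)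

theorem flat_snd_fiberι [GrpObj G] [GrpObj H] [LocallyOfFiniteType G.hom]
    [LocallyOfFiniteType H.hom] [GeometricallyReduced H.hom] (f : G ⟶ H) [IsMonHom f]
    [Surjective f.left] (s : S) : Flat (pullback.snd f.left (H.hom.fiberι s)) := by
  obtain ⟨e, he⟩ := exists_iso_fib f s
  have : LocallyOfFiniteType (Red.bc (pt s) G).hom :=
    GrpSch.bc_hom_of (P := @LocallyOfFiniteType) (pt s) G ‹_›
  have : LocallyOfFiniteType (Red.bc (pt s) H).hom :=
    GrpSch.bc_hom_of (P := @LocallyOfFiniteType) (pt s) H ‹_›
  have : GeometricallyReduced (Red.bc (pt s) H).hom :=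
    GrpSch.bc_hom_of (P := @GeometricallyReduced) (pt s) H ‹_›
  have : IsMonHom (fib f s) := GrpSch.isMonHom_bc_map (pt s) f
  have := surjective_fib f s
  rw [he]
  exact MorphismProperty.comp_mem (W := @Flat) e.inv _ inferInstance
    (Field.flat_of_geometricallyReduced (fib f s))

/-- A surjective homomorphism from a flat group onto a group with geometrically reduced fibres is
flat, and so is its target. -/
theorem flat [GrpObj G] [GrpObj H] [LocallyOfFinitePresentation G.hom] [Flat G.hom]
    [LocallyOfFiniteType H.hom] [GeometricallyReduced H.hom] (f : G ⟶ H) [IsMonHom f]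
    [Surjective f.left] : Flat f.left ∧ Flat H.hom := by
  refine ⟨Flat55.FibreTransfer.flat f.left H.hom (Over.w f) fun s => flat_snd_fiberι f s, ?_⟩
  refine (Flat.iff_flat_stalkMap H.hom).2 fun y => ?_
  obtain ⟨x, rfl⟩ := f.left.surjective y
  exact (Flat55.FibreTransfer.flat_stalkMap f.left H.hom (Over.w f) x (flat_snd_fiberι f _)).2

end Groth.Agent.H2.FlatHom.Base
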