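import Groth.Agent.Lib.GrpQ.FlatHom
import Groth.Agent.H19.FlatLocus.Scheme
import Groth.Agent.Lib.ModelFibre.MaxPoint
import Groth.Agent.Lib.Flat55.GenericPoints

/-!
# Surjective homomorphisms onto reduced group schemes over a field are flat

No quasi-compactness hypotheses.
-/

set_option autoImplicit false

universe u

open CategoryTheory Limits MonoidalCategory CartesianMonoidalCategory MonObj AlgebraicGeometry
open Groth.Agent.Lib

namespace Groth.Agent.H2.FlatHom.Field

/-- Over an algebraically closed field, a surjective homomorphism onto a reduced group locally of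
finite type is flat: the flat locus is open, non-empty and stable under translations. -/
theorem flat_of_isReduced {k : Type u} [Field k] [IsAlgClosed k]
    {G H : Over (Spec (CommRingCat.of k))} [GrpObj G] [GrpObj H] [LocallyOfFiniteType G.hom]
    [LocallyOfFiniteType H.hom] [IsReduced H.left]
    (f : G ⟶ H) [IsMonHom f] [Surjective f.left] : Flat f.left := by
  have : IsLocallyNoetherian H.left := LocallyOfFiniteType.isLocallyNoetherian H.hom
  have : LocallyOfFiniteType (f.left ≫ H.hom) := by rw [Over.w]; infer_instance
  have : LocallyOfFiniteType f.left := locallyOfFiniteType_of_comp f.left H.hom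
  have : LocallyOfFinitePresentation f.left := inferInstance
  let U : G.left.Opens :=
    ⟨{x | (f.left.stalkMap x).hom.Flat}, H19.FlatLocus.Scheme.isOpen_flat_stalkMap f.left⟩
  have hne : (U : Set G.left).Nonempty := by
    obtain ⟨ξ, hξ, -⟩ := Flat55.GenericPoints.exists_specializes
      (η[H].left (IsLocalRing.closedPoint k) : H.left)
    have hmin : ∀ y : H.left, y ⤳ ξ → y = ξ := fun y hy =>
      Flat55.GenericPoints.eq_of_specializes hξ hy
    obtain ⟨x, rfl⟩ := f.left.surjective ξ
    refine ⟨x, ?_⟩
    letI := (f.left.stalkMap x).hom.toAlgebra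
    letI := (ModelFibre.MaxPoint.isField_stalk (X := H.left) hmin).toField
    exact Module.Flat.of_free
  have hU : Flat (U.ι ≫ f.left) := (Flat.iff_flat_stalkMap _).2 fun x => by
    rw [Scheme.Hom.stalkMap_comp]
    erw [CommRingCat.hom_comp]
    exact RingHom.Flat.comp x.2 ((Flat.iff_flat_stalkMap U.ι).1 inferInstance x)
  have key : ∀ g : 𝟙_ (Over (Spec (CommRingCat.of k))) ⟶ G,
      Flat (((GrpSch.translate (GrpSch.regularAction G) g).hom.left ⁻¹ᵁ U).ι ≫ f.left) := by
    intro g
    have sq := GrpSch.forall_translate_isPullback f g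
    set t := (GrpSch.translate (GrpSch.regularAction G) g).hom.left
    set t' := (GrpSch.translate (GrpSch.regularAction H) (g ≫ f)).hom.left
    have : IsIso t := ((Over.forget _).mapIso (GrpSch.translate _ g)).isIso_hom
    have : IsIso t' := ((Over.forget _).mapIso (GrpSch.translate _ (g ≫ f))).isIso_hom
    have e : (t ⁻¹ᵁ U).ι ≫ f.left = ((t ∣_ U) ≫ (U.ι ≫ f.left)) ≫ inv t' := by
      rw [IsIso.eq_comp_inv, ← Category.assoc (t ∣_ U), morphismRestrict_ι, Category.assoc,
        Category.assoc, sq.w]
    rw [e]
    infer_instance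
  have hcov : ∀ x : G.left, ∃ W : G.left.Opens, x ∈ W ∧ Flat (W.ι ≫ f.left) := by
    intro x
    obtain ⟨c, hxc, W, hcW, W', rfl, hPW⟩ := GrpSch.exists_nhd_forall
      (P := fun W => ∃ W' : G.left.Opens, (W' : Set G.left) = W ∧ Flat (W'.ι ≫ f.left)) U hne x
      fun g => ⟨_, rfl, key g⟩
    exact ⟨W', hxc.mem_open W'.2 hcW, hPW⟩
  choose W hxW hW using hcov
  have hsup : ⨆ x, W x = ⊤ := top_le_iff.1 fun x _ => TopologicalSpace.Opens.mem_iSup.2 ⟨x, hxW x⟩
  exact IsZariskiLocalAtSource.of_iSup_eq_top (P := @Flat) W hsup hW

/-- A surjective homomorphism onto a geometrically reduced group locally of finite type over a field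
is flat. -/
theorem flat_of_geometricallyReduced {k : Type u} [Field k]
    {G H : Over (Spec (CommRingCat.of k))} [GrpObj G] [GrpObj H] [LocallyOfFiniteType G.hom]
    [LocallyOfFiniteType H.hom] [GeometricallyReduced H.hom]
    (f : G ⟶ H) [IsMonHom f] [Surjective f.left] : Flat f.left := by
  let K := AlgebraicClosure k
  let b := GrpSch.extBase k K
  have : IsReduced (Red.bc b H).left :=
    pullback_of_geometrically GeometricallyReduced.geometrically_isReduced K b
  have : LocallyOfFiniteType (Red.bc b G).hom :=
    GrpSch.bc_hom_of (P := @LocallyOfFiniteType) b G ‹_›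
  have : LocallyOfFiniteType (Red.bc b H).hom :=
    GrpSch.bc_hom_of (P := @LocallyOfFiniteType) b H ‹_›
  have : Surjective ((Over.pullback b).map f).left :=
    GrpSch.bc_map_left_of (P := @Surjective) b f ‹_›
  have : IsMonHom ((Over.pullback b).map f) := GrpSch.isMonHom_bc_map b f
  have : IsZariskiLocalAtTarget (@Flat : MorphismProperty Scheme.{u}) :=
    HasRingHomProperty.instIsZariskiLocalAtTarget _
  have : MorphismProperty.RespectsIso (@Flat : MorphismProperty Scheme.{u}) :=
    MorphismProperty.IsStableUnderBaseChange.respectsIso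
  exact GrpSch.of_bc_map_left k K (P := (@Flat : MorphismProperty Scheme.{u})) f
    (flat_of_isReduced ((Over.pullback b).map f))

end Groth.Agent.H2.FlatHom.Field
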